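import Groth.Agent.Lib.ResProp.ThickNhd24
import Groth.Agent.Lib.FunMor20.CohInd
import Groth.Agent.Lib.OX.LocalTensor
import Groth.Agent.Lib.AmpleCd10.Main
import Groth.Agent.Lib.CohGab9.Basic
import Groth.Agent.Lib.ResProp22.Ample
import Groth.Agent.Lib.PerfLim10.Main
import Groth.Agent.Lib.Cube.Pic
import Groth.Agent.Lib.ParaPair.Basic
import Groth.Agent.S0816

/-!
# Almost ample families
-/

set_option autoImplicit false
set_option backward.isDefEq.respectTransparency false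
set_option linter.style.haveILetI false
set_option maxHeartbeats 1000000

universe u

open AlgebraicGeometry CategoryTheory CategoryTheory.Limits TopologicalSpace Opposite

noncomputable section

namespace GrothLib.AlmostAmple24

variable {X : Scheme.{u}}

/-- A module is zero if its restrictions to a cover vanish. -/
theorem isZero_of_cover {M : X.Modules} {κ : Type*} (U : κ → X.Opens) (hc : ∀ x : X, ∃ k, x ∈ U k)
    (h : ∀ k, IsZero ((Scheme.Modules.restrictFunctor (U k).ι).obj M)) : IsZero M := by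
  have hs : ∀ x : X, IsZero ((OX.stalk x).obj M) := fun x => by
    obtain ⟨k, hk⟩ := hc x
    obtain ⟨y, rfl⟩ : x ∈ Set.range (U k).ι := by rw [Scheme.Opens.range_ι]; exact hk
    rw [IsZero.iff_id_eq_zero, ← CategoryTheory.Functor.map_id]
    exact OX.stalk_map_zero_of_restrictZero (U k).ι (𝟙 M) y ((h k).eq_of_src _ _)
  have : IsIso (0 : M ⟶ M) := (OX.isIso_iff _).2 fun x => ⟨0, (hs x).eq_of_src _ _, (hs x).eq_of_src _ _⟩
  exact (IsZero.iff_id_eq_zero M).2 ((cancel_epi (0 : M ⟶ M)).1 (by simp))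

/-- Maps into `M` which are jointly epimorphic on the members of a cover give an epimorphism. -/
theorem epi_desc_of_cover {m : ℕ} (N : Fin m → X.Modules) {M : X.Modules} (χ : ∀ t, N t ⟶ M)
    {κ : Type*} (U : κ → X.Opens) (hc : ∀ x : X, ∃ k, x ∈ U k)
    (h : ∀ k {Z : ((U k : X.Opens) : Scheme.{u}).Modules} (g : (Scheme.Modules.restrictFunctor (U k).ι).obj M ⟶ Z),
      (∀ t, (Scheme.Modules.restrictFunctor (U k).ι).map (χ t) ≫ g = 0) → g = 0) :
    Epi (Sigma.desc χ) := by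
  refine Preadditive.epi_of_isZero_cokernel _ (isZero_of_cover U hc fun k => ?_)
  haveI : (Scheme.Modules.restrictFunctor (U k).ι).IsLeftAdjoint :=
    (Scheme.Modules.restrictAdjunction (U k).ι).isLeftAdjoint
  refine IsZero.of_epi_eq_zero ((Scheme.Modules.restrictFunctor (U k).ι).map (cokernel.π (Sigma.desc χ)))
    (h k _ fun t => ?_)
  rw [← Functor.map_comp, show χ t = Sigma.ι N t ≫ Sigma.desc χ from (Sigma.ι_desc _ _).symm, Category.assoc,
    cokernel.condition, comp_zero, Functor.map_zero]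

/-- Pulling back after restricting. -/
theorem nonempty_pullback_restrict {X' : Scheme.{u}} (b : X' ⟶ X) (V : X.Opens) (F : X.Modules) :
    Nonempty (((Scheme.Modules.pullback b).obj F).restrict (b ⁻¹ᵁ V).ι ≅
      (Scheme.Modules.pullback (b ∣_ V)).obj (F.restrict V.ι)) :=
  ⟨(Scheme.Modules.restrictFunctorIsoPullback (b ⁻¹ᵁ V).ι).app _ ≪≫
    (Scheme.Modules.pullbackComp (b ⁻¹ᵁ V).ι b).app F ≪≫
    (Scheme.Modules.pullbackCongr (morphismRestrict_ι b V).symm).app F ≪≫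
    ((Scheme.Modules.pullbackComp (b ∣_ V) V.ι).app F).symm ≪≫
    (Scheme.Modules.pullback (b ∣_ V)).mapIso ((Scheme.Modules.restrictFunctorIsoPullback V.ι).app F).symm⟩

/-- The condition on the pullback of an extension of a negative power. -/
theorem nonempty_tensor_inverse {X' : Scheme.{u}} (b : X' ⟶ X) (V : X.Opens) (F : X.Modules)
    {L M : (V : Scheme.{u}).Modules} (hL : PicF.IsInvertible L) (hM : PicF.IsInvertible M)
    (hLM : ClSub.IsInverseOf M L) (L' : X'.Modules) (hL' : PicF.IsInvertible L') (n k : ℕ)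
    (hiL : Nonempty ((Scheme.Modules.pullback (b ∣_ V)).obj L ≅ (CohB1.tensorPow L' n).restrict (b ⁻¹ᵁ V).ι))
    (hF : Nonempty (F.restrict V.ι ≅ CohB1.tensorPow M k)) :
    Nonempty (CohB1.tensorMod (((Scheme.Modules.pullback b).obj F).restrict (b ⁻¹ᵁ V).ι)
      ((CohB1.tensorPow L' (n * k)).restrict (b ⁻¹ᵁ V).ι) ≅ Coh.structureModule (b ⁻¹ᵁ V : Scheme.{u})) := by
  obtain ⟨a⟩ := nonempty_pullback_restrict b V F
  obtain ⟨eF⟩ := hF
  obtain ⟨c⟩ := PerfLim10.nonempty_tensorPow_tensorPow hL' n k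
  have hMk := Ample.isInvertible_tensorPow hM k
  have hP := Ample.isInvertible_pullback (b ∣_ V) hMk
  have hLn := Ample.isInvertible_tensorPow hL' n
  have hA := Ample.isInvertible_pullback (b ⁻¹ᵁ V).ι hLn
  have hB := Ample.isInvertible_pullback (b ⁻¹ᵁ V).ι (Ample.isInvertible_tensorPow hLn k)
  refine ⟨Ample.LineData.tensorModMapIso (a ≪≫ (Scheme.Modules.pullback (b ∣_ V)).mapIso eF)
    ((Scheme.Modules.restrictFunctor (b ⁻¹ᵁ V).ι).mapIso c.symm ≪≫
      (Scheme.Modules.restrictFunctorIsoPullback (b ⁻¹ᵁ V).ι).app _) ≪≫ Classical.choice ?_⟩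
  refine (Cube.clsMod_eq_one_iff (Ample.isInvertible_tensorMod hP hB)).1 ?_
  have e : Cube.clsMod hA = Cube.pull (b ∣_ V) (Cube.clsMod hL) := by
    rw [← Cube.clsMod_pullback (b ∣_ V) hL, Cube.clsMod_eq_iff]
    exact ⟨((Scheme.Modules.restrictFunctorIsoPullback (b ⁻¹ᵁ V).ι).app _).symm ≪≫ hiL.some.symm⟩
  rw [Cube.clsMod_tensorMod hP hB, Cube.clsMod_pullback _ hMk,
    Cube.clsMod_pullback _ (Ample.isInvertible_tensorPow hLn k), Cube.clsMod_tensorPow hLn,
    Cube.clsMod_tensorPow hM, map_pow, map_pow, ← Cube.clsMod_pullback _ hLn, e,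
    Cube.clsMod_eq_inv_of_isInverseOf hM hL hLM, map_inv, inv_pow, inv_mul_cancel]

theorem exists_almostAmpleFamily {A : Type u} [CommRing A] [IsNoetherianRing A] {X : Scheme.{u}}
    (p : X ⟶ Spec (CommRingCat.of A)) [IsSeparated p] [LocallyOfFiniteType p] [QuasiCompact p] :
    ∃ (ι : Type u) (F : ι → X.Modules) (V : ι → X.Opens),
      (∀ i, Coh.IsCoh (F i) ∧ (∀ y : X, ringKrullDim (X.presheaf.stalk y) ≤ 1 → y ∈ V i) ∧
        PicF.IsInvertible ((F i).restrict (V i).ι)) ∧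
      (⨆ i, V i) = ⊤ ∧
      (∀ i, ∃ (X' : Scheme.{u}) (f : X' ⟶ X) (W : X.Opens) (L' : X'.Modules), IsProper f ∧
        Dense (W : Set X) ∧ Dense ((f ⁻¹ᵁ W : X'.Opens) : Set X') ∧ IsIso (f ∣_ W) ∧ CohB1.IsAmple L' ∧
        Nonempty (CohB1.tensorMod (((Scheme.Modules.pullback f).obj (F i)).restrict (f ⁻¹ᵁ (V i)).ι)
          (L'.restrict (f ⁻¹ᵁ (V i)).ι) ≅ Coh.structureModule (f ⁻¹ᵁ (V i) : Scheme.{u}))) ∧
      (∀ M : X.Modules, Coh.IsCoh M → ∃ (m : ℕ) (j : Fin m → ι) (n : Fin m → ℕ)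
        (π : (∐ fun t : Fin m => CohB1.tensorPow (F (j t)) (n t + 1)) ⟶ M), Epi π) := by
  classical
  haveI : IsNoetherian X := GrothLib.Nagata6.isNoetherian_of_ft p
  choose U V X' b L L' n hxU hUV hVc hnoe hb hUd hUd' hiso hL' hL hn hiL using
    fun x : X => ThickNhd24.exists_thick_nhd p x
  choose M hM hLM' using fun x => ResProp22.exists_inverse (hL x).1
  have hLM : ∀ x, ClSub.IsInverseOf (M x) (L x) := fun x =>
    ⟨(((OX.tensorBraiding (X := (V x : Scheme.{u}))).app (L x)).app (M x)) ≪≫ (hLM' x).some⟩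
  let eqv := equivSmallModel.{u} (FunMor20.cohP X).FullSubcategory
  let G : SmallModel.{u} (FunMor20.cohP X).FullSubcategory → X.Modules := fun c => (eqv.inverse.obj c).obj
  let ι := Σ x : X, { q : ℕ × SmallModel.{u} (FunMor20.cohP X).FullSubcategory //
    Nonempty ((G q.2).restrict (V x).ι ≅ CohB1.tensorPow (M x) (q.1 + 1)) }
  -- a member of the family for each extension
  have member : ∀ (x : X) (k : ℕ) (H : X.Modules), Coh.IsCoh H →
      Nonempty (H.restrict (V x).ι ≅ CohB1.tensorPow (M x) (k + 1)) →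
      ∃ i : ι, i.1 = x ∧ Nonempty (G i.2.1.2 ≅ H) := fun x k H hH hHe => by
    let e : G (eqv.functor.obj ⟨H, hH⟩) ≅ H :=
      (FunMor20.cohP X).ι.mapIso (eqv.unitIso.app ⟨H, hH⟩).symm
    exact ⟨⟨x, ⟨(k, eqv.functor.obj ⟨H, hH⟩),
      ⟨(Scheme.Modules.restrictFunctor (V x).ι).mapIso e ≪≫ hHe.some⟩⟩⟩, rfl, ⟨e⟩⟩
  haveI : ∀ x, IsNoetherian (V x : Scheme.{u}) := fun x => GrothLib.Nagata6.isNoetherian_of_ft (V x).ι
  have hMc : ∀ x k, Coh.IsCoh (CohB1.tensorPow (M x) k) := fun x k =>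
    Euler.isCoh_of_isFinLocFree (Euler.isFinLocFree_of_isInvertible (Ample.isInvertible_tensorPow (hM x) k))
  refine ⟨ι, fun i => G i.2.1.2, fun i => V i.1, fun i => ⟨(eqv.inverse.obj i.2.1.2).property, hVc i.1, ?_⟩,
    ?_, fun i => ?_, fun N hN => ?_⟩
  · exact ParaPair.isInvertible_of_iso i.2.2.some (Ample.isInvertible_tensorPow (hM i.1) _)
  · refine top_le_iff.1 fun x _ => Opens.mem_iSup.2 ?_
    obtain ⟨H, hH, hHe⟩ := CohGab9.exists_extension (V x) _ (hMc x 1)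
    obtain ⟨i, hi, -⟩ := member x 0 H hH hHe
    exact ⟨i, hi ▸ hUV x (hxU x)⟩
  · have hk : 0 < n i.1 * (i.2.1.1 + 1) := Nat.mul_pos (hn i.1) (Nat.succ_pos _)
    exact ⟨X' i.1, b i.1, U i.1, CohB1.tensorPow (L' i.1) (n i.1 * (i.2.1.1 + 1)), hb i.1, hUd i.1, hUd' i.1,
      hiso i.1, (Ample.isAmple_tensorPow_iff (hL' i.1).1 hk).1 (hL' i.1),
      nonempty_tensor_inverse (b i.1) (V i.1) _ (hL i.1).1 (hM i.1) (hLM i.1) (L' i.1) (hL' i.1).1 _ _
        (hiL i.1) i.2.2⟩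
  · obtain ⟨s, hs⟩ := isCompact_univ.elim_finite_subcover (fun x : X => (V x : Set X)) (fun x => (V x).2)
      fun x _ => Set.mem_iUnion.2 ⟨x, hUV x (hxU x)⟩
    -- the maps over each member of the cover
    have cover : ∀ x : X, ∃ (r : ℕ) (j : Fin r → ι) (χ : ∀ t, CohB1.tensorPow (G (j t).2.1.2) (0 + 1) ⟶ N),
        ∀ {Z : ((V x : X.Opens) : Scheme.{u}).Modules}
          (g : (Scheme.Modules.restrictFunctor (V x).ι).obj N ⟶ Z),
          (∀ t, (Scheme.Modules.restrictFunctor (V x).ι).map (χ t) ≫ g = 0) → g = 0 := fun x => by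
      obtain ⟨d, r, E, φ, hd, hφ, -, ⟨e⟩⟩ := AmpleCd10.exists_epi (hL x) (hLM x)
        ((Scheme.Modules.restrictFunctor (V x).ι).obj N) (Cohom.isCoh_restrict N hN _) 1
      obtain ⟨k, rfl⟩ : ∃ k, d = k + 1 := ⟨d - 1, (Nat.sub_add_cancel hd).symm⟩
      obtain ⟨H, hH, ⟨eH⟩⟩ := CohGab9.exists_extension (V x) _ (hMc x (k + 1))
      have comp : ∀ t : Fin r, ∃ (i : ι) (χ : CohB1.tensorPow (G i.2.1.2) (0 + 1) ⟶ N)
          (θ : (Scheme.Modules.restrictFunctor (V x).ι).obj (CohB1.tensorPow (G i.2.1.2) (0 + 1)) ≅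
            CohB1.tensorPow (M x) (k + 1)),
          (Scheme.Modules.restrictFunctor (V x).ι).map χ =
            θ.hom ≫ Sigma.ι (fun _ : Fin r => CohB1.tensorPow (M x) (k + 1)) t ≫ e.inv ≫ φ := fun t => by
        obtain ⟨H', inc, χ', -, hH', hinc, hχ'⟩ := Groth.Agent.S0816.result X H N hH hN (V x)
          (eH.hom ≫ Sigma.ι (fun _ : Fin r => CohB1.tensorPow (M x) (k + 1)) t ≫ e.inv ≫ φ)
        haveI := hinc
        obtain ⟨i, -, ⟨ei⟩⟩ := member x k H'
          hH' ⟨asIso ((Scheme.Modules.restrictFunctor (V x).ι).map inc) ≪≫ eH⟩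
        refine ⟨i, (OX.tensorUnitLeftIso _).hom ≫ ei.hom ≫ χ',
          (Scheme.Modules.restrictFunctor (V x).ι).mapIso (OX.tensorUnitLeftIso _ ≪≫ ei) ≪≫
            asIso ((Scheme.Modules.restrictFunctor (V x).ι).map inc) ≪≫ eH, ?_⟩
        simp only [Functor.map_comp, hχ', Iso.trans_hom, Functor.mapIso_hom, asIso_hom, Category.assoc]
      choose j χ θ hθ using comp
      refine ⟨r, j, χ, fun g hg => ?_⟩
      haveI := hφ
      refine (cancel_epi (e.inv ≫ φ)).1 (Sigma.hom_ext _ _ fun t => ?_)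
      rw [comp_zero, comp_zero, ← cancel_epi (θ t).hom, comp_zero]
      simpa only [hθ, Category.assoc] using hg t
    choose r j χ hχ using cover
    let e := (Fintype.equivFin (Σ x : s, Fin (r x.1))).symm
    refine ⟨_, fun t => j (e t).1.1 (e t).2, fun _ => 0, Sigma.desc fun t => χ (e t).1.1 (e t).2, ?_⟩
    refine epi_desc_of_cover _ _ (fun x : s => V x.1) (fun y => ?_) fun x Z g hg => hχ x.1 g fun t => ?_
    · simpa using hs (Set.mem_univ y)
    · exact (e.surjective.forall (p := fun p => (Scheme.Modules.restrictFunctor (V x.1).ι).map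
        (χ p.1.1 p.2) ≫ g = 0)).2 hg ⟨x, t⟩

end GrothLib.AlmostAmple24
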